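import Mathlib

/-!
# Local rings inside a function field
-/

set_option autoImplicit false
set_option linter.style.haveILetI false
set_option backward.isDefEq.respectTransparency.types false
universe u
open CategoryTheory Limits AlgebraicGeometry

noncomputable section

namespace Groth.Agent.H28Centre

variable {C X Z : Scheme.{u}} [IsIntegral C]

/-- The local ring at a point below the image of the generic point of `C`, mapped to the function field of `C`. -/
def toFun (i : C ⟶ X) {x : X} (h : i (genericPoint C) ⤳ x) : X.presheaf.stalk x →+* C.functionField :=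
  (i.stalkMap (genericPoint C)).hom.comp (X.presheaf.stalkSpecializes h).hom

theorem spec_toFun (i : C ⟶ X) {x : X} (h : i (genericPoint C) ⤳ x) :
    Spec.map (CommRingCat.ofHom (toFun i h)) ≫ X.fromSpecStalk x = C.fromSpecStalk (genericPoint C) ≫ i := by
  have e : CommRingCat.ofHom (toFun i h) = X.presheaf.stalkSpecializes h ≫ i.stalkMap (genericPoint C) := rfl
  rw [e, Spec.map_comp, Category.assoc, Scheme.SpecMap_stalkSpecializes_fromSpecStalk,
    Scheme.SpecMap_stalkMap_fromSpecStalk]

theorem toFun_comp (i : C ⟶ Z) (ρ : Z ⟶ X) {z : Z} (h : i (genericPoint C) ⤳ z)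
    (h' : (i ≫ ρ) (genericPoint C) ⤳ ρ z) : toFun (i ≫ ρ) h' = (toFun i h).comp (ρ.stalkMap z).hom := by
  refine congrArg CommRingCat.Hom.hom
    (Spec.map_injective ((cancel_mono (X.fromSpecStalk (ρ z))).1 ?_) :
      CommRingCat.ofHom (toFun (i ≫ ρ) h') = CommRingCat.ofHom ((toFun i h).comp (ρ.stalkMap z).hom))
  rw [spec_toFun, CommRingCat.ofHom_comp, Spec.map_comp, Category.assoc]
  show _ = _ ≫ Spec.map (ρ.stalkMap z) ≫ _
  rw [Scheme.SpecMap_stalkMap_fromSpecStalk, ← Category.assoc, ← Category.assoc, spec_toFun]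

theorem stalkSpecializes_injective [IsIntegral X] {x y : X} (hy : y = genericPoint X) (h : y ⤳ x) :
    Function.Injective (X.presheaf.stalkSpecializes h) := by
  subst hy
  exact IsFractionRing.injective (X.presheaf.stalk x) X.functionField

theorem isField_stalk [IsIntegral X] {y : X} (hy : y = genericPoint X) : IsField (X.presheaf.stalk y) := by
  subst hy
  exact Field.toIsField X.functionField

theorem toFun_injective [IsIntegral X] (i : C ⟶ X) (hi : i (genericPoint C) = genericPoint X) {x : X}
    (h : i (genericPoint C) ⤳ x) : Function.Injective (toFun i h) := by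
  letI := (isField_stalk hi).toField
  exact (i.stalkMap (genericPoint C)).hom.injective.comp (stalkSpecializes_injective hi h)

theorem exists_frac [IsIntegral X] {x y : X} (hy : y = genericPoint X) (h : y ⤳ x) (k : X.presheaf.stalk y) :
    ∃ a b : X.presheaf.stalk x, b ≠ 0 ∧
      k * X.presheaf.stalkSpecializes h b = X.presheaf.stalkSpecializes h a := by
  subst hy
  obtain ⟨a, b, hb, rfl⟩ := IsFractionRing.div_surjective (X.presheaf.stalk x) (K := X.functionField) k
  have hb0 := nonZeroDivisors.ne_zero hb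
  exact ⟨a, b, hb0, div_mul_cancel₀ _ (fun h0 => hb0 (IsFractionRing.injective _ X.functionField (h0.trans (map_zero _).symm)))⟩

/-- A valuation ring is maximal for domination. -/
theorem bijective_of_dominated {A B K : Type u} [CommRing A] [IsDomain A] [ValuationRing A] [CommRing B] [Field K]
    (f : A →+* K) (g : B →+* K) (hg : Function.Injective g) (hf : Function.Injective f) (ψ : A →+* B) [IsLocalHom ψ]
    (hψ : g.comp ψ = f) (hfrac : ∀ k : K, ∃ a b : A, b ≠ 0 ∧ k * f b = f a) : Function.Bijective ψ := by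
  have hψi : Function.Injective ψ := fun a b h => hf (by rw [← hψ, RingHom.comp_apply, h]; rfl)
  refine ⟨hψi, fun x => ?_⟩
  obtain ⟨a, b, hb, hk⟩ := hfrac (g x)
  have hb' : f b ≠ 0 := fun h => hb (hf (h.trans (map_zero f).symm))
  obtain ⟨c, hc | hc⟩ := ValuationRing.cond a b
  · by_cases ha : a = 0
    · subst ha; exact absurd (by rw [← hc, zero_mul]) hb
    have h1 : g (x * ψ c) = g 1 := by
      rw [map_mul, map_one, ← RingHom.comp_apply, hψ]
      have ha' : f a ≠ 0 := fun h => ha (hf (h.trans (map_zero f).symm))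
      rw [← hc, map_mul] at hk
      exact mul_left_cancel₀ ha' (by rw [mul_one]; linear_combination hk)
    have hu : IsUnit (ψ c) := IsUnit.of_mul_eq_one x (by rw [mul_comm]; exact hg h1)
    obtain ⟨u, rfl⟩ := IsLocalHom.map_nonunit (f := ψ) c hu
    refine ⟨↑u⁻¹, ?_⟩
    have h2 : ψ (↑u⁻¹ : A) * ψ (u : A) = x * ψ (u : A) := by
      rw [hg h1, ← map_mul, Units.inv_mul, map_one]
    exact hu.mul_right_cancel h2
  · refine ⟨c, hg ?_⟩
    rw [← RingHom.comp_apply, hψ]
    rw [← hc, map_mul] at hk
    exact mul_right_cancel₀ hb' (by linear_combination -hk)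

/-- Points whose local rings have the same image in the function field coincide, on a separated scheme. -/
theorem eq_of_range_eq [X.IsSeparated] [IsIntegral X] [IsIntegral Z] (iZ : C ⟶ Z)
    (hiZ : iZ (genericPoint C) = genericPoint Z) (ρ : Z ⟶ X)
    (hρ : (iZ ≫ ρ) (genericPoint C) = genericPoint X) {z : Z} (hz : iZ (genericPoint C) ⤳ z)
    {ξ : X} (hξ : (iZ ≫ ρ) (genericPoint C) ⤳ ξ)
    (h : Set.range (toFun (iZ ≫ ρ) hξ) = Set.range (toFun iZ hz)) :
    ρ z = ξ ∧ Nonempty (X.presheaf.stalk ξ ≃+* Z.presheaf.stalk z) := by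
  let f₁ := toFun (iZ ≫ ρ) hξ
  let f₂ := toFun iZ hz
  have h₁ := toFun_injective (iZ ≫ ρ) hρ hξ
  have h₂ := toFun_injective iZ hiZ hz
  let E₁ : X.presheaf.stalk ξ ≃+* f₁.range :=
    RingEquiv.ofBijective f₁.rangeRestrict ⟨fun a b e => h₁ (congrArg Subtype.val e), f₁.rangeRestrict_surjective⟩
  let E₂ : Z.presheaf.stalk z ≃+* f₂.range :=
    RingEquiv.ofBijective f₂.rangeRestrict ⟨fun a b e => h₂ (congrArg Subtype.val e), f₂.rangeRestrict_surjective⟩
  have hr : f₁.range = f₂.range := SetLike.coe_injective (by rw [RingHom.coe_range, RingHom.coe_range]; exact h)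
  let e : X.presheaf.stalk ξ ≃+* Z.presheaf.stalk z := (E₁.trans (RingEquiv.subringCongr hr)).trans E₂.symm
  have he : f₂.comp e.toRingHom = f₁ := RingHom.ext fun a => by
    show (E₂ (E₂.symm (RingEquiv.subringCongr hr (E₁ a))) : C.functionField) = f₁ a
    rw [RingEquiv.apply_symm_apply]
    rfl
  refine ⟨?_, ⟨e⟩⟩
  have hdom : IsDominant (Spec.map (CommRingCat.ofHom f₂)) := ⟨by
    refine fun q => closure_mono (Set.singleton_subset_iff.2 (Set.mem_range_self (IsLocalRing.closedPoint C.functionField))) ?_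
    refine ((PrimeSpectrum.le_iff_specializes _ _).1 ?_).mem_closure
    show Ideal.comap f₂ (IsLocalRing.maximalIdeal C.functionField) ≤ _
    rw [IsLocalRing.maximalIdeal_eq_bot, Ideal.comap_bot_of_injective _ h₂]
    exact bot_le⟩
  have key : Z.fromSpecStalk z ≫ ρ = Spec.map e.toCommRingCatIso.hom ≫ X.fromSpecStalk ξ := by
    haveI : IsDomain (Z.presheaf.stalk z) := inferInstance
    haveI : IsDominant (Spec.map (CommRingCat.ofHom f₂) : _ ⟶ Spec (Z.presheaf.stalk z)) := hdom
    refine @ext_of_isDominant_of_isSeparated (s := terminal.from X) (ι := Spec.map (CommRingCat.ofHom f₂))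
      (h := terminal.hom_ext _ _) _ _ _ _ _ _ ?_ ?_ hdom ?_ <;> first | infer_instance | skip
    rw [← Category.assoc, spec_toFun, Category.assoc, ← Spec.map_comp_assoc]
    rw [show e.toCommRingCatIso.hom ≫ CommRingCat.ofHom f₂ = CommRingCat.ofHom f₁ from
      CommRingCat.hom_ext he, spec_toFun]
  have hc := congrArg (fun (m : Spec (Z.presheaf.stalk z) ⟶ X) => m (IsLocalRing.closedPoint (Z.presheaf.stalk z))) key
  simp only [Scheme.Hom.comp_apply, Scheme.fromSpecStalk_closedPoint] at hc
  rw [hc]
  have hcl : Spec.map e.toCommRingCatIso.hom (IsLocalRing.closedPoint (Z.presheaf.stalk z)) =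
      IsLocalRing.closedPoint (X.presheaf.stalk ξ) := by
    haveI : IsLocalHom e.toCommRingCatIso.hom.hom := ⟨fun a ha => by
      have := ha.map e.symm.toRingHom
      simpa using this⟩
    exact IsLocalRing.comap_closedPoint e.toCommRingCatIso.hom.hom
  rw [hcl, Scheme.fromSpecStalk_closedPoint]

end Groth.Agent.H28Centre
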