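import Groth.Agent.H28Centre.NoContracted
import Groth.Agent.H28Centre.FunField
import Groth.Agent.H28RR.ModelArith
import Groth.Agent.H28Contr.NormDominate
import Groth.Agent.H28Vert.NoIsolated

/-!
# Morphisms of models given by centres of valuations
-/

set_option autoImplicit false
set_option linter.style.haveILetI false
set_option backward.isDefEq.respectTransparency.types false
set_option maxHeartbeats 1000000
universe u
open CategoryTheory CategoryTheory.Limits AlgebraicGeometry TopologicalSpace
open Groth.Agent

noncomputable section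

namespace Groth.Agent.H28Centre

variable {R : Type u} [CommRing R] [IsDomain R] [IsDiscreteValuationRing R]

/-- The scheme theoretic image of a reduced scheme is reduced (as in `H25JacProd.Completion`). -/
theorem isReduced_image {X Y : Scheme.{u}} (f : X ⟶ Y) [QuasiCompact f] [IsReduced X] : IsReduced f.image := by
  haveI : ∀ x : f.image, _root_.IsReduced (f.image.presheaf.stalk x) := by
    intro x
    obtain ⟨U, hU, hxU, -⟩ := exists_isAffineOpen_mem_and_subset (x := f.imageι x) (U := ⊤) trivial
    have hinj := f.toImage_app_injective (U := ⟨U, hU⟩)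
    haveI : _root_.IsReduced Γ(f.image, f.imageι ⁻¹ᵁ U) := isReduced_of_injective _ hinj
    letI := TopCat.Presheaf.algebra_section_stalk f.image.presheaf (⟨x, hxU⟩ : ↥(f.imageι ⁻¹ᵁ U))
    haveI := (hU.preimage f.imageι).isLocalization_stalk ⟨x, hxU⟩
    exact isReduced_localizationPreserves ((hU.preimage f.imageι).primeIdealOf ⟨x, hxU⟩).asIdeal.primeCompl _ inferInstance
  exact isReduced_of_isReduced_stalk _

/-- An integral proper flat model of a curve has dimension at most two. -/
theorem dim_le_two {C X : Scheme.{u}} [IsIntegral C] [IsIntegral X] (f : C ⟶ Spec (CommRingCat.of (FractionRing R)))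
    [IsProper f] (hdimC : topologicalKrullDim C = 1) (p : X ⟶ Spec (CommRingCat.of R)) [IsProper p] (g : C ⟶ X)
    (hg : IsPullback g f p (Spec.map (CommRingCat.ofHom (algebraMap R (FractionRing R))))) :
    topologicalKrullDim X ≤ 2 := by
  classical
  haveI := H28Vert.isOpenImmersion_generic (R := R)
  haveI : IsOpenImmersion g := MorphismProperty.of_isPullback hg.flip inferInstance
  let η : Spec (CommRingCat.of R) := (⟨⊥, Ideal.isPrime_bot⟩ : PrimeSpectrum R)
  let s : Spec (CommRingCat.of R) := IsLocalRing.closedPoint R
  have htwo : ∀ t : Spec (CommRingCat.of R), t = η ∨ t = s := fun t => by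
    by_cases h : t.asIdeal = ⊥
    · exact Or.inl (PrimeSpectrum.ext h)
    · exact Or.inr (PrimeSpectrum.ext (IsLocalRing.eq_maximalIdeal (Ideal.IsPrime.isMaximal t.isPrime h)))
  have hφ : ∀ z, Spec.map (CommRingCat.ofHom (algebraMap R (FractionRing R))) z = η := fun z =>
    PrimeSpectrum.ext ((congrArg (Ideal.comap (algebraMap R (FractionRing R))) (Ideal.eq_bot_of_prime
      (PrimeSpectrum.asIdeal (R := FractionRing R) z))).trans
        (Ideal.comap_bot_of_injective _ (IsFractionRing.injective R (FractionRing R))))
  have hrange : Set.range g = p ⁻¹' {η} := by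
    ext x
    refine ⟨?_, fun hx => ?_⟩
    · rintro ⟨c, rfl⟩
      show p (g c) = η
      rw [← Scheme.Hom.comp_apply, hg.w, Scheme.Hom.comp_apply, hφ]
    · exact H28Vert.mem_opensRange_of_isPullback hg x (⟨⊥, Ideal.isPrime_bot⟩ : PrimeSpectrum (FractionRing R))
        ((show p x = η from hx).trans (hφ _).symm)
  have hdη : topologicalKrullDim ↥(p.fiber η) = 1 := by
    rw [(p.fiberHomeo η).isHomeomorph.topologicalKrullDim_eq]
    show topologicalKrullDim ↥(p ⁻¹' {η}) = 1
    rw [← hrange, ← g.isOpenEmbedding.isEmbedding.toHomeomorph.isHomeomorph.topologicalKrullDim_eq, hdimC]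
  obtain ⟨c₀⟩ : Nonempty C := inferInstance
  have hc₀ : p (g c₀) = η := hrange.le ⟨c₀, rfl⟩
  haveI : Surjective p := ⟨fun t => by
    rcases htwo t with rfl | rfl
    · exact ⟨_, hc₀⟩
    · exact ((IsLocalRing.specializes_closedPoint (p (g c₀))).mem_closed p.isClosedMap.isClosed_range ⟨g c₀, rfl⟩)⟩
  haveI : IrreducibleSpace ↥X := inferInstance
  have hds : topologicalKrullDim ↥(p.fiber s) ≤ 1 := by
    refine H17.DualSh.dim_le_of_components fun Z hZ => ?_
    exact (S7624.result R X p Z hZ).trans hdη
  have h := H05EGA4.DimFibre.dim_le_add p (1 : WithBot ℕ∞) (fun t => by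
    rcases htwo t with rfl | rfl
    · exact hdη.le
    · exact hds)
  refine h.trans ?_
  rw [show topologicalKrullDim ↥(Spec (CommRingCat.of R)) = topologicalKrullDim (PrimeSpectrum R) from rfl,
    PrimeSpectrum.topologicalKrullDim_eq_ringKrullDim, IsDiscreteValuationRing.ringKrullDim_eq_one R]
  exact le_of_eq one_add_one_eq_two

variable {C XR WR Z : Scheme.{u}} [IsIntegral C] [IsIntegral XR] [IsIntegral WR] [IsIntegral Z]

/-- Two points of a closed subscheme of a product over a closed point of the first factor, one specialising to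
the other and with the same image in the second factor, are equal. -/
theorem eq_of_specializes (p : XR ⟶ Spec (CommRingCat.of R)) [IsProper p] (q : WR ⟶ Spec (CommRingCat.of R))
    {x : XR} (hx : IsClosed ({x} : Set XR)) (u v : ↥(pullback p q)) (huv : u ⤳ v)
    (hu : pullback.fst p q u = x) (hv : pullback.fst p q v = x) (h : pullback.snd p q u = pullback.snd p q v) :
    u = v := by
  let i := XR.fromSpecResidueField x
  haveI : IsClosedImmersion i := isClosed_singleton_iff_isClosedImmersion.1 hx
  haveI : IsFinite (i ≫ p) := IsFinite.iff_isProper_and_isAffineHom.2 ⟨inferInstance, inferInstance⟩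
  let P := pullback (pullback.fst p q) i
  let a := pullback.fst (pullback.fst p q) i
  have hP : IsPullback (a ≫ pullback.snd p q) (pullback.snd (pullback.fst p q) i) q (i ≫ p) :=
    (IsPullback.of_hasPullback (pullback.fst p q) i).paste_horiz (IsPullback.of_hasPullback p q).flip
  haveI : IsFinite (a ≫ pullback.snd p q) := MorphismProperty.of_isPullback hP.flip inferInstance
  have hr : ∀ w, pullback.fst p q w = x → w ∈ Set.range a := fun w hw => by
    rw [Scheme.Pullback.range_fst]
    show pullback.fst p q w ∈ Set.range i
    rw [hw, Scheme.range_fromSpecResidueField]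
    rfl
  obtain ⟨u', rfl⟩ := hr u hu
  obtain ⟨v', rfl⟩ := hr v hv
  have huv' : u' ⤳ v' := a.isClosedEmbedding.isInducing.specializes_iff.1 huv
  refine congrArg a ?_
  haveI : DiscreteTopology ↥((a ≫ pullback.snd p q) ⁻¹' {(a ≫ pullback.snd p q) u'}) :=
    ((a ≫ pullback.snd p q).isDiscrete_preimage_singleton _).to_subtype
  have hsp : (⟨u', rfl⟩ : ↥((a ≫ pullback.snd p q) ⁻¹' {(a ≫ pullback.snd p q) u'})) ⤳
      ⟨v', by simp only [Set.mem_preimage, Set.mem_singleton_iff, Scheme.Hom.comp_apply]; exact h.symm⟩ :=
    (subtype_specializes_iff _ _).2 huv'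
  exact congrArg Subtype.val hsp.eq

theorem exists_hom (f : C ⟶ Spec (CommRingCat.of (FractionRing R))) [IsProper f]
    (hdimC : topologicalKrullDim C = 1)
    (p : XR ⟶ Spec (CommRingCat.of R)) [IsProper p] (q : WR ⟶ Spec (CommRingCat.of R)) [IsProper q]
    (hXn : Pi1.IsNormalScheme XR) (hWn : Pi1.IsNormalScheme WR)
    (iX : C ⟶ XR) (hiX : IsPullback iX f p (Spec.map (CommRingCat.ofHom (algebraMap R (FractionRing R)))))
    (iW : C ⟶ WR) (hiW : IsPullback iW f q (Spec.map (CommRingCat.ofHom (algebraMap R (FractionRing R)))))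
    (H : ∀ (ξ : WR) (hξ : iW (genericPoint C) ⤳ ξ),
      closure ({ξ} : Set WR) ∈ Models.fibreComponents R (Over.mk q) →
        ∃ (ξ' : XR) (hξ' : iX (genericPoint C) ⤳ ξ'),
          Set.range (toFun iX hξ') = Set.range (toFun iW hξ)) :
    ∃ φ : XR ⟶ WR, φ ≫ q = p ∧ iX ≫ φ = iW := by
  haveI := H28Vert.isOpenImmersion_generic (R := R)
  haveI : IsOpenImmersion iX := MorphismProperty.of_isPullback hiX.flip inferInstance
  haveI : IsOpenImmersion iW := MorphismProperty.of_isPullback hiW.flip inferInstance
  have hXη : iX (genericPoint C) = genericPoint XR := genericPoint_eq_of_isOpenImmersion iX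
  have hWη : iW (genericPoint C) = genericPoint WR := genericPoint_eq_of_isOpenImmersion iW
  have hdX := dim_le_two f hdimC p iX hiX
  have hdW := dim_le_two f hdimC q iW hiW
  haveI : IsLocallyNoetherian XR := LocallyOfFiniteType.isLocallyNoetherian p
  haveI : IsLocallyNoetherian WR := LocallyOfFiniteType.isLocallyNoetherian q
  haveI : CompactSpace XR := QuasiCompact.compactSpace_of_compactSpace p
  haveI : XR.IsSeparated := ⟨by rw [← terminal.comp_from p]; infer_instance⟩
  let h : C ⟶ pullback p q := pullback.lift iX iW (hiX.w.trans hiW.w.symm)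
  haveI : CompactSpace C := QuasiCompact.compactSpace_of_compactSpace f
  haveI : IsLocallyNoetherian C := LocallyOfFiniteType.isLocallyNoetherian f
  haveI : IsNoetherian C := ⟨⟩
  haveI : QuasiCompact h := inferInstance
  let t : C ⟶ h.image := h.toImage
  haveI : IrreducibleSpace h.image := by
    have hd : DenseRange t := (inferInstance : IsDominant t).denseRange
    have hirr : IsIrreducible (closure (Set.range t)) := by
      rw [← Set.image_univ]
      exact ((IrreducibleSpace.isIrreducible_univ C).image _ t.continuous.continuousOn).closure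
    rw [hd.closure_range] at hirr
    exact { toNonempty := ⟨t (genericPoint C)⟩, isPreirreducible_univ := hirr.2 }
  haveI : IsReduced h.image := isReduced_image h
  haveI : IsIntegral h.image := isIntegral_of_irreducibleSpace_of_isReduced _
  have htη : t (genericPoint C) = genericPoint h.image := by
    refine (genericPoint_spec h.image).eq ?_ |>.symm
    refine (Set.eq_univ_of_univ_subset ?_)
    rw [← (inferInstance : IsDominant t).denseRange.closure_range]
    refine closure_minimal ?_ isClosed_closure
    rintro _ ⟨c, rfl⟩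
    exact ((genericPoint_specializes c).map t.continuous).mem_closure
  let ρ : h.image ⟶ XR := h.imageι ≫ pullback.fst p q
  let g : h.image ⟶ WR := h.imageι ≫ pullback.snd p q
  have htρ : t ≫ ρ = iX := by rw [← Category.assoc, Scheme.Hom.toImage_imageι, pullback.lift_fst]
  have htg : t ≫ g = iW := by rw [← Category.assoc, Scheme.Hom.toImage_imageι, pullback.lift_snd]
  have hρq : g ≫ q = ρ ≫ p := by simp only [g, ρ, Category.assoc, pullback.condition]
  haveI : IsProper ρ := inferInstance
  haveI : IsLocallyNoetherian h.image := LocallyOfFiniteType.isLocallyNoetherian ρ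
  haveI : CompactSpace h.image := QuasiCompact.compactSpace_of_compactSpace ρ
  have hρη : ρ (genericPoint h.image) = genericPoint XR := by
    rw [← htη, ← Scheme.Hom.comp_apply, htρ, hXη]
  have hbij : Function.Bijective (ρ.stalkMap (genericPoint h.image)) := by
    have hb : Function.Bijective ((t ≫ ρ).stalkMap (genericPoint C)) := by
      haveI : IsIso ((t ≫ ρ).stalkMap (genericPoint C)) := by
        rw [htρ]; infer_instance
      exact ConcreteCategory.bijective_of_isIso ((t ≫ ρ).stalkMap (genericPoint C))
    rw [Scheme.Hom.stalkMap_comp] at hb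
    replace hb : Function.Bijective (⇑(t.stalkMap (genericPoint C)).hom ∘
        ⇑(ρ.stalkMap (t (genericPoint C))).hom) := hb
    letI := (isField_stalk htη).toField
    have hti : Function.Injective (t.stalkMap (genericPoint C)) := (t.stalkMap (genericPoint C)).hom.injective
    have hs : Function.Bijective (ρ.stalkMap (t (genericPoint C))) :=
      ⟨hb.1.of_comp, fun y => (hb.2 (t.stalkMap (genericPoint C) y)).imp fun _ e => hti e⟩
    exact htη ▸ hs
  have hdY : topologicalKrullDim h.image ≤ 2 :=
    H28Vert.topologicalKrullDim_le_of_stalks _ fun z =>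
      (H28Contr.stalk_dim_le_of_birational ρ (H28Contr.residueFieldMap_bijective ρ hbij) z).trans
        ((H28Contr.ringKrullDim_stalk_le_top _).trans hdX)
  have hiso : IsIso ρ := isIso_of_no_contracted_normal hdY hXn ρ hρη hbij fun z w hzw hne hρw hz1 => by
    by_contra hx1
    have hx : IsClosed ({ρ z} : Set XR) := H28Contr.isClosed_of_dim_two hdX hx1
    have hpz : p (ρ z) = IsLocalRing.closedPoint R := by
      have hc := p.isClosedMap _ hx
      rw [Set.image_singleton] at hc
      exact ((IsLocalRing.specializes_closedPoint (p (ρ z))).mem_closed hc rfl).symm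
    have hgne : g z ≠ g w := fun e => hne (h.imageι.isClosedEmbedding.injective
      (eq_of_specializes p q hx _ _ (hzw.map h.imageι.continuous) rfl
        (by rw [← Scheme.Hom.comp_apply]; exact hρw) (by rw [← Scheme.Hom.comp_apply, ← Scheme.Hom.comp_apply]; exact e)))
    have hgs : g z ⤳ g w := hzw.map g.continuous
    have hqz : q (g z) = IsLocalRing.closedPoint R := by
      rw [← Scheme.Hom.comp_apply, hρq, Scheme.Hom.comp_apply, hpz]
    have hg1 : ringKrullDim (WR.presheaf.stalk (g z)) ≤ 1 := by
      by_contra hcon
      exact hgne (hgs.mem_closed (H28Contr.isClosed_of_dim_two hdW hcon) rfl).symm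
    have hηq : q (genericPoint WR) ≠ IsLocalRing.closedPoint R := fun e => by
      rw [← hWη, ← Scheme.Hom.comp_apply, hiW.w, Scheme.Hom.comp_apply] at e
      refine IsDiscreteValuationRing.not_a_field R ?_
      rw [← show (IsLocalRing.closedPoint R).asIdeal = IsLocalRing.maximalIdeal R from rfl,
        ← congrArg PrimeSpectrum.asIdeal e]
      exact (congrArg (Ideal.comap (algebraMap R (FractionRing R))) (Ideal.eq_bot_of_prime
        (PrimeSpectrum.asIdeal (R := FractionRing R) (f (genericPoint C))))).trans
          (Ideal.comap_bot_of_injective _ (IsFractionRing.injective R (FractionRing R)))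
    have hcomp : closure ({g z} : Set WR) ∈ Models.fibreComponents R (Over.mk q) := by
      refine ⟨⟨isIrreducible_singleton.closure, closure_minimal (Set.singleton_subset_iff.2 hqz)
        (Models.isClosed_specialFibreSet R (Over.mk q))⟩, ?_⟩
      rintro T ⟨hT, hTS⟩ hle
      have hgen : IsGenericPoint hT.genericPoint (closure T) := hT.isGenericPoint_genericPoint_closure
      have hsp : hT.genericPoint ⤳ g z := hgen.specializes (subset_closure (hle (subset_closure rfl)))
      have hts : q hT.genericPoint = IsLocalRing.closedPoint R :=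
        (closure_minimal hTS (Models.isClosed_specialFibreSet R (Over.mk q))) hgen.mem
      have heq : hT.genericPoint = g z := by
        by_contra hne'
        have := (H28Contr.ringKrullDim_stalk_lt (X := WR) hsp hne').trans_le hg1
        exact hηq (H28Contr.eq_genericPoint_of_dim_lt_one this ▸ hts)
      refine subset_closure.trans ?_
      rw [← heq, hgen.def]
    have htz : t (genericPoint C) ⤳ z := htη ▸ genericPoint_specializes z
    have hWz : (t ≫ g) (genericPoint C) ⤳ g z := htz.map g.continuous
    obtain ⟨ξ', hξ', hrange⟩ := H (g z) (htg ▸ hWz) hcomp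
    have hdom : Function.Bijective (g.stalkMap z) := by
      haveI := (hWn (g z)).1
      haveI := (hWn (g z)).2
      haveI := H28Contr.valuationRing_of_dim_le_one (WR.presheaf.stalk (g z)) hg1
      refine bijective_of_dominated (toFun (t ≫ g) hWz) (toFun t htz) (toFun_injective t htη htz)
        (toFun_injective _ ?_ hWz) (g.stalkMap z).hom (toFun_comp t g htz hWz).symm ?_
      · rw [htg, hWη]
      · intro k
        have hb : Function.Surjective ((t ≫ g).stalkMap (genericPoint C)) := by
          haveI : IsIso ((t ≫ g).stalkMap (genericPoint C)) := by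
            rw [htg]; infer_instance
          exact (ConcreteCategory.bijective_of_isIso ((t ≫ g).stalkMap (genericPoint C))).2
        obtain ⟨k₀, rfl⟩ := hb k
        obtain ⟨a, b, hb0, hab⟩ := exists_frac (show (t ≫ g) (genericPoint C) = genericPoint WR by rw [htg, hWη])
          hWz k₀
        exact ⟨a, b, hb0, (map_mul ((t ≫ g).stalkMap (genericPoint C)).hom _ _).symm.trans (congrArg _ hab)⟩
    have hrg : Set.range (toFun (t ≫ g) hWz) = Set.range (toFun t htz) := by
      rw [toFun_comp t g htz hWz, RingHom.coe_comp, hdom.2.range_comp]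
    have hξ'' : (t ≫ ρ) (genericPoint C) ⤳ ξ' := by rw [htρ]; exact hξ'
    have e1 : ∀ (i i' : C ⟶ XR) (hh : i = i') {x : XR} (hi : i (genericPoint C) ⤳ x) (hi' : i' (genericPoint C) ⤳ x),
        Set.range (toFun i hi) = Set.range (toFun i' hi') := by
      intro i i' hh x hi hi'; subst hh; rfl
    have e2 : ∀ (i i' : C ⟶ WR) (hh : i = i') {x : WR} (hi : i (genericPoint C) ⤳ x) (hi' : i' (genericPoint C) ⤳ x),
        Set.range (toFun i hi) = Set.range (toFun i' hi') := by
      intro i i' hh x hi hi'; subst hh; rfl
    obtain ⟨hxz, ⟨e⟩⟩ := eq_of_range_eq t htη ρ (by rw [htρ, hXη]) htz hξ''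
      ((e1 _ _ htρ hξ'' hξ').trans (hrange.trans ((e2 _ _ htg.symm _ hWz).trans hrg)))
    refine hx1 ?_
    rw [hxz, ringKrullDim_eq_of_ringEquiv e]
    exact hz1
  haveI := hiso
  refine ⟨inv ρ ≫ g, ?_, ?_⟩
  · rw [Category.assoc, hρq, IsIso.inv_hom_id_assoc]
  · rw [← htρ, Category.assoc, IsIso.hom_inv_id_assoc, htg]

end Groth.Agent.H28Centre
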