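import Groth.Agent.H28Contr.RelMin

/-!
# A birational proper map onto a normal scheme contracting no curve is an isomorphism
-/

set_option autoImplicit false
set_option linter.style.haveILetI false
set_option backward.isDefEq.respectTransparency.types false
universe u
open CategoryTheory Limits AlgebraicGeometry TopologicalSpace
open Groth.Agent Groth.Agent.H28Contr

namespace Groth.Agent.H28Centre

/-- A birational proper morphism from a surface to a normal scheme contracting no curve is an isomorphism. -/
theorem isIso_of_no_contracted_normal {Y Y' : Scheme.{u}} [IsIntegral Y] [IsLocallyNoetherian Y] [CompactSpace Y]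
    [IsLocallyNoetherian Y'] [CompactSpace Y'] (hdY : topologicalKrullDim Y ≤ 2) (hnor : Pi1.IsNormalScheme Y') [IsIntegral Y']
    (g : Y ⟶ Y') [IsProper g] (hgen : g (genericPoint Y) = genericPoint Y')
    (hbij : Function.Bijective (g.stalkMap (genericPoint Y)))
    (h : ∀ z w : Y, z ⤳ w → z ≠ w → g w = g z → ringKrullDim (Y.presheaf.stalk z) ≤ 1 →
      ringKrullDim (Y'.presheaf.stalk (g z)) ≤ 1) : IsIso g := by
  classical
  haveI : IsNoetherian Y := ⟨⟩
  haveI : IsDominant g := H10ZMT.isDominant_of_apply_genericPoint g hgen
  have hsurj : Function.Surjective g := fun t => by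
    have h1 : Set.range g = Set.univ := by
      rw [← g.isClosedMap.isClosed_range.closure_eq]
      exact g.denseRange.closure_range
    exact h1.ge (Set.mem_univ t)
  have hrb := residueFieldMap_bijective g hbij
  have hstar : ∀ y : Y', IsClosed ({y} : Set Y') → ∀ u v, g u = y → g v = y → u = v := by
    intro y hy u v hu hv
    have hFc : IsClosed (g ⁻¹' {y}) := hy.preimage g.continuous
    by_cases hall : ∀ z ∈ g ⁻¹' {y}, IsClosed ({z} : Set Y)
    · haveI : T1Space (g ⁻¹' {y} : Set Y) := ⟨fun z => by
        have e : ({z} : Set (g ⁻¹' {y} : Set Y)) = Subtype.val ⁻¹' {z.1} := by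
          ext w; exact ⟨fun hw => congrArg Subtype.val hw, fun hw => Subtype.ext hw⟩
        rw [e]
        exact (hall z.1 z.2).preimage continuous_subtype_val⟩
      haveI : Finite (g ⁻¹' {y} : Set Y) := (finite_of_closed_points hFc hall).to_subtype
      haveI : DiscreteTopology (g ⁻¹' {y} : Set Y) := inferInstance
      haveI : PreconnectedSpace (g ⁻¹' {y} : Set Y) :=
        Subtype.preconnectedSpace (H28Pinch.isPreconnected_fibre_of_birational g hnor hgen hbij y)
      haveI : Subsingleton (g ⁻¹' {y} : Set Y) := PreconnectedSpace.trivial_of_discrete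
      exact congrArg Subtype.val (Subsingleton.elim (⟨u, hu⟩ : (g ⁻¹' {y} : Set Y)) ⟨v, hv⟩)
    · push Not at hall
      obtain ⟨z, hz, hzc⟩ := hall
      exfalso
      obtain ⟨w, hzw, hne⟩ : ∃ w, z ⤳ w ∧ z ≠ w := by
        by_contra hcon
        push Not at hcon
        refine hzc (closure_subset_iff_isClosed.1 fun w hw => ?_)
        exact (hcon w (specializes_iff_mem_closure.2 hw)).symm
      have hz1 : ringKrullDim (Y.presheaf.stalk z) ≤ 1 := by
        by_contra h1
        exact hzc (isClosed_of_dim_two hdY h1)
      have hw : g w = y := (show w ∈ g ⁻¹' {y} from hzw.mem_closed hFc hz)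
      have hzη : z ≠ genericPoint Y := fun e => by
        have hy0 : g w = genericPoint Y' := by
          rw [hw, ← (show g z = y from hz), e, hgen]
        have h1 := ringKrullDim_stalk_lt hzw hne
        have h2 := stalk_dim_le_of_birational g hrb w
        rw [hy0, show ringKrullDim (Y'.presheaf.stalk (genericPoint Y')) = 0 from
          ringKrullDim_eq_zero_of_isField (Field.toIsField Y'.functionField)] at h2
        exact (h1.trans_le h2).not_ge ringKrullDim_nonneg_of_nontrivial
      have hw2 : ¬ ringKrullDim (Y.presheaf.stalk w) ≤ 1 := fun h1 =>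
        hzη (eq_genericPoint_of_dim_lt_one ((ringKrullDim_stalk_lt hzw hne).trans_le h1))
      refine hw2 ((stalk_dim_le_of_birational g hrb w).trans ?_)
      rw [hw, ← (show g z = y from hz)]
      exact h z w hzw hne (by rw [hw, show g z = y from hz]) hz1
  haveI : IsIso g.fromNormalization := H10ZMT.isIso_fromNormalization g fun V _ =>
    ⟨(H28Pinch.bijective_app_of_birational g hnor hgen hbij V).1,
      fun b _ => (H28Pinch.bijective_app_of_birational g hnor hgen hbij V).2 b⟩
  obtain ⟨V, hV, hVq⟩ := H10ZMT.exists_open_isIso_quasiFinite g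
  have hVtop : V = ⊤ := by
    by_contra hVne
    obtain ⟨y, hyV, hy⟩ := V.2.isClosed_compl.exists_closed_singleton
      (Set.nonempty_compl.2 fun e => hVne (Opens.ext e))
    obtain ⟨x, rfl⟩ := hsurj y
    refine hyV ((hVq x).2 ?_)
    rw [Scheme.Hom.quasiFiniteAt_iff_isOpen_singleton_asFiber]
    haveI : Subsingleton (g.fiber (g x)) := ⟨fun u v => by
      have hu : g (g.fiberι _ u) = g x := (g.range_fiberι (g x)).subset ⟨u, rfl⟩
      have hv : g (g.fiberι _ v) = g x := (g.range_fiberι (g x)).subset ⟨v, rfl⟩
      exact (g.fiberι _).isEmbedding.injective (hstar _ hy _ _ hu hv)⟩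
    exact isOpen_discrete _
  haveI : IsIso g := by
    refine IsZariskiLocalAtTarget.of_iSup_eq_top (P := MorphismProperty.isomorphisms Scheme) (fun _ : PUnit.{u+1} => V)
      (by rw [iSup_const, hVtop]) fun _ => hV
  assumption

end Groth.Agent.H28Centre
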